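import Cfsg.Agent.INV.G2C.RDef

/-!
# G2C/Ring : finite facts on `Rg c` and its automorphisms

HINT for `e4`, `gal`, `chi`: an automorphism `θ` is additive and fixes 1, so it is determined by
`(θ ⟨w,0⟩, θ ⟨0,1⟩) = (i, j)`: `θ ⟨s,r⟩ = ev i j ⟨s,r⟩ := lift i s + lift i r * j` with `lift i` the ring map
`F4 → Rg c`, `w ↦ i`; `i² + i + 1 = 0`, `j² + j + lift i c = 0`, `ev i j` injective.  For each of the four `c` show by
`decide` (256 pairs) that such `(i, j)` lie in an explicit list (4 pairs if `c = w, v` [field `F₁₆`, cyclic group],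
8 pairs if `c = 0, 1` [`F₄ × F₄`, dihedral group]) and then `decide` the statements on the lists.
-/

set_option autoImplicit false

namespace CL.G2C

open F4

namespace Rg

variable {c : F4}

/-- the ring map `F₄ → Rg c` with `w ↦ i` -/
def lift (i : Rg c) (s : F4) : Rg c := match s with | .o => 0 | .l => 1 | .w => i | .v => i + 1
/-- the additive map with `w ↦ p.1`, `x ↦ p.2` -/
def ev (p : Rg c × Rg c) (a : Rg c) : Rg c := lift p.1 a.s + lift p.1 a.r * p.2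
def allR (c : F4) : List (Rg c) := [o, l, w, v].flatMap fun s => [o, l, w, v].map fun r => ⟨s, r⟩
def ok (p : Rg c × Rg c) : Bool := p.1 * p.1 + p.1 + 1 = 0 ∧ p.2 * p.2 + p.2 + lift p.1 c = 0 ∧
  ∀ a ∈ allR c, ev p a = 0 → a = 0
def auts (c : F4) : List (Rg c × Rg c) :=
  ((allR c).flatMap fun i => (allR c).map fun j => (i, j)).filter ok
def dt (θ : RingAut (Rg c)) : Rg c × Rg c := (θ ⟨w, 0⟩, θ ⟨0, 1⟩)
theorem mem_allR (a : Rg c) : a ∈ allR c := by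
  obtain ⟨s, r⟩ := a; cases s <;> cases r <;> simp [allR]
theorem lift_dt (θ : RingAut (Rg c)) (s : F4) : θ ⟨s, 0⟩ = lift (dt θ).1 s := by
  cases s
  · exact map_zero θ
  · exact map_one θ
  · rfl
  · change _ = θ _ + 1
    rw [← map_one θ, ← map_add]; rfl
theorem ev_dt (θ : RingAut (Rg c)) (a : Rg c) : θ a = ev (dt θ) a := by
  rw [ev, ← lift_dt, ← lift_dt, dt, ← map_mul, ← map_add]; congr 1; ext <;> simp
theorem dt_mem (θ : RingAut (Rg c)) : dt θ ∈ auts c := by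
  simp only [auts, List.mem_filter, List.mem_flatMap, List.mem_map, ok, decide_eq_true_eq]
  refine ⟨⟨_, mem_allR _, _, mem_allR _, rfl⟩, ?_, ?_, fun a _ h => ?_⟩
  · rw [dt, ← map_one θ, ← map_mul, ← map_add, ← map_add, ← map_zero θ]; congr 1
    ext <;> simp; decide
  · rw [← lift_dt, dt, ← map_mul, ← map_add, ← map_add, ← map_zero θ]; congr 1
    have h : ∀ s : F4, s + s = 0 := by decide
    ext <;> simp [h]
  · rwa [← ev_dt, map_eq_zero_iff _ θ.injective] at h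
theorem app {θ θ' : RingAut (Rg c)} (h : θ = θ') (a : Rg c) : θ a = θ' a := by rw [h]
theorem e4_aux : ∀ c : F4, ∀ p ∈ auts c, ∀ p₁ ∈ auts c, ∀ p₂ ∈ auts c, (∀ a ∈ allR c, ev p (ev p a) = a ∧
    ev p₁ (ev p₁ a) = a ∧ ev p₂ (ev p₂ a) = a ∧ ev p (ev p₁ a) = ev p₁ (ev p a) ∧
    ev p (ev p₂ a) = ev p₂ (ev p a) ∧ ev p₁ (ev p₂ a) = ev p₂ (ev p₁ a)) → (∀ a ∈ allR c, ev p a = a) ∨
    ∀ a ∈ allR c, ev p a = a → ev p₁ a = a ∨ ev p₂ a = a ∨ ev p₁ (ev p₂ a) = a := by decide +kernel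
theorem gal_aux : ∀ c : F4, ∀ p₁ ∈ auts c, ∀ p₂ ∈ auts c, (∀ a ∈ allR c,
    ev p₁ (ev p₁ a) = a ∧ ev p₂ (ev p₂ a) = a ∧ (ev p₁ a = a ↔ ev p₂ a = a)) → (∀ a ∈ allR c, ev p₁ a = a) ∨
    ∀ a ∈ allR c, ev p₁ a = ev p₂ a := by decide +kernel
/-- the character -/
def ch (p : Rg c × Rg c) : ZMod 4 :=
  let x : Rg c := ⟨0, 1⟩
  let e : Rg c := ⟨w * c, 1⟩
  if c = 0 ∨ c = 1 then (if ev p e = e then 0 else 2) else
    if p.2 = x then 0 else if p.2 = x * x then 1 else if p.2 = x + 1 then 2 else 3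
theorem ch_aux : ∀ c : F4, ∀ p₁ ∈ auts c, ∀ p₂ ∈ auts c,
    ch (ev p₁ p₂.1, ev p₁ p₂.2) = ch p₁ + ch p₂ := by decide +kernel

/-- the centraliser of a nontrivial involution `σ` meets `⟨σ⟩` in index at most 2 -/
theorem e4 (σ τ₁ τ₂ : RingAut (Rg c)) (h : σ * σ = 1) (h₁ : τ₁ * τ₁ = 1) (h₂ : τ₂ * τ₂ = 1) (h0 : σ ≠ 1)
    (c₁ : σ * τ₁ = τ₁ * σ) (c₂ : σ * τ₂ = τ₂ * σ) (c₃ : τ₁ * τ₂ = τ₂ * τ₁)
    (big : ∃ a, σ a = a ∧ τ₁ a ≠ a ∧ τ₂ a ≠ a ∧ τ₁ (τ₂ a) ≠ a) : False := by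
  obtain ⟨a, h1, h2, h3, h4⟩ := big
  rcases e4_aux c _ (dt_mem σ) _ (dt_mem τ₁) _ (dt_mem τ₂) (fun a _ => by
    simp only [← ev_dt]; exact ⟨app h a, app h₁ a, app h₂ a, app c₁ a, app c₂ a, app c₃ a⟩) with H | H
  · exact h0 (RingEquiv.ext fun a => (ev_dt σ a).trans (H a (mem_allR a)))
  · simp only [← ev_dt] at H
    exact (H a (mem_allR a) h1).elim h2 fun h => h.elim h3 h4

/-- nontrivial involutive automorphisms with the same fixed points are equal -/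
theorem gal (τ₁ τ₂ : RingAut (Rg c)) (h₁ : τ₁ * τ₁ = 1) (h₂ : τ₂ * τ₂ = 1) (h0 : τ₁ ≠ 1)
    (e : ∀ a, τ₁ a = a ↔ τ₂ a = a) : τ₁ = τ₂ := by
  rcases gal_aux c _ (dt_mem τ₁) _ (dt_mem τ₂) (fun a _ => by
    simp only [← ev_dt]; exact ⟨app h₁ a, app h₂ a, e a⟩) with H | H
  · exact absurd (RingEquiv.ext fun a => (ev_dt τ₁ a).trans (H a (mem_allR a))) h0
  · simp only [← ev_dt] at H
    exact RingEquiv.ext fun a => H a (mem_allR a)

/-- field case: `χ(Frob^k) = k`; product case: `χ θ = 2` iff `θ` swaps the two idempotents -/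
theorem chi (c : F4) : ∃ χ : RingAut (Rg c) →* Multiplicative (ZMod 4), χ (sg c) ≠ 1 := by
  refine ⟨MonoidHom.mk' (fun θ => Multiplicative.ofAdd (ch (dt θ))) fun θ θ' => ?_, ?_⟩
  · rw [← ofAdd_add, ← ch_aux c _ (dt_mem θ) _ (dt_mem θ'), ← ev_dt, ← ev_dt]; rfl
  · change Multiplicative.ofAdd (ch ((⟨w + 0, 0⟩ : Rg c), (⟨0 + 1, 1⟩ : Rg c))) ≠ 1
    revert c; decide +kernel

/-- PROOF. `p₁ = a₁ 1`, `p₂ = a₂ 1`; `a₃ s = p₁ * a₂ s`, `a₃ r = a₁ r * p₂`; surjectivity makes `p₁, p₂` units;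
`a₃ r * a₃ s = p₁ p₂ * a₃ (r s)`, `a₃ 1 = p₁ p₂`; `θ = (p₁ p₂)⁻¹ a₃`. -/
theorem autotop (a₁ a₂ a₃ : Rg c → Rg c) (add : ∀ r s, a₃ (r + s) = a₃ r + a₃ s)
    (inj : Function.Injective a₃) (e : ∀ r s, a₃ (r * s) = a₁ r * a₂ s) :
    ∃ p, IsUnit p ∧ ∃ θ : RingAut (Rg c), ∀ r, a₃ r = p * θ r := by
  have sj := Finite.injective_iff_surjective.1 inj
  obtain ⟨r₀, h0⟩ := sj 1
  have u₁ : IsUnit (a₁ 1) := IsUnit.of_mul_eq_one (a₂ r₀) (by rw [← e, one_mul, h0])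
  have u₂ : IsUnit (a₂ 1) := IsUnit.of_mul_eq_one (a₁ r₀) (by rw [mul_comm, ← e, mul_one, h0])
  obtain ⟨u, hu⟩ := u₁.mul u₂
  have m (r s : Rg c) : a₃ r * a₃ s = u * a₃ (r * s) := by
    have h1 := e r 1
    have h2 := e 1 s
    rw [mul_one] at h1
    rw [one_mul] at h2
    rw [h1, h2, e r s, hu]; ring
  let f : Rg c →+* Rg c :=
    { toFun := fun r => ↑u⁻¹ * a₃ r
      map_one' := by rw [← mul_one 1, e, ← hu, mul_one, Units.inv_mul]
      map_mul' := fun r s => by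
        calc _ = ↑u⁻¹ * ↑u⁻¹ * (u * a₃ (r * s)) := by rw [mul_assoc, Units.inv_mul_cancel_left]
          _ = _ := by rw [← m]; ring
      map_zero' := by rw [show a₃ 0 = 0 by simpa using add 0 0, mul_zero]
      map_add' := fun r s => by rw [add, mul_add] }
  have fi : Function.Injective f := fun r s h => inj ((Units.mul_right_inj u⁻¹).1 h)
  exact ⟨u, u.isUnit, RingEquiv.ofBijective f ⟨fi, Finite.injective_iff_surjective.1 fi⟩, fun r =>
    (Units.mul_inv_cancel_left u _).symm⟩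

end Rg

/-- PROOF. `f(w a, w b) = v f(a, b)` and biadditivity give `F₄`-bilinearity: expand
`f(v a, v b) = w f(a, b)` with `v = w + 1` to get `f(w a, b) = f(a, w b)`, then
`v f(a,b) = f(w a, w b) = f(v a, b) = f(w a, b) + f(a, b)`.  `f((1,0),(0,1)) = (p, 1)`, `f((0,1),(1,0)) = (p', 1)`
and `f((0,1),(0,1)) = (ρ, 1 + p + p')` by `hs`; take `c = ρ + p p'`. -/
theorem exists_ring (f : F4 × F4 → F4 × F4 → F4 × F4) (addl : ∀ a a' b, f (a + a') b = f a b + f a' b)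
    (addr : ∀ a b b', f a (b + b') = f a b + f a b') (hw : ∀ a b, f (w • a) (w • b) = v • f a b)
    (hs : ∀ a b, f (a.1 + a.2, a.2) (b.1 + b.2, b.2) = ((f a b).1 + (f a b).2, (f a b).2))
    (h0 : ∀ s s', f (s, 0) (s', 0) = (s * s', 0)) :
    ∃ c p p' : F4, ∀ a b, (⟨(f a b).1, (f a b).2⟩ : Rg c) = ⟨a.1 + p' * a.2, a.2⟩ * ⟨b.1 + p * b.2, b.2⟩ := by
  have aa : ∀ s : F4, s + s = 0 := by decide
  have ad (a : F4 × F4) : a + a = 0 := Prod.ext (aa _) (aa _)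
  have vw (a : F4 × F4) : v • a = w • a + a := by rw [show v = w + 1 from rfl, add_smul, one_smul]
  have z1 (b : F4 × F4) : f 0 b = 0 := by simpa using addl 0 0 b
  have z2 (a : F4 × F4) : f a 0 = 0 := by simpa using addr a 0 0
  have s1 (a b : F4 × F4) : f (w • a) b = f a (w • b) := by
    have h := hw (w • a) (w • b)
    rw [hw a b, smul_smul, smul_smul, smul_smul, show w * w = v from rfl, show v * v = w from rfl, vw, vw, addl, addr,
      addr, hw, vw] at h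
    linear_combination h - ad (f a b) - ad (f a (w • b))
  have s2 (a b : F4 × F4) : f (w • a) b = w • f a b := by
    have h := hw a b
    rw [← s1, smul_smul, show w * w = v from rfl, vw, addl, vw] at h
    exact add_right_cancel h
  have l1 (s : F4) (a b : F4 × F4) : f (s • a) b = s • f a b := by
    cases s
    · exact (congrArg (f · b) (zero_smul _ a)).trans ((z1 b).trans (zero_smul _ _).symm)
    · exact (congrArg (f · b) (one_smul _ a)).trans (one_smul _ _).symm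
    · exact s2 a b
    · rw [vw, vw, addl, s2]
  have l2 (s : F4) (a b : F4 × F4) : f a (s • b) = s • f a b := by
    cases s
    · exact (congrArg (f a) (zero_smul _ b)).trans ((z2 a).trans (zero_smul _ _).symm)
    · exact (congrArg (f a) (one_smul _ b)).trans (one_smul _ _).symm
    · rw [← s1, s2]
    · rw [vw, vw, addr, ← s1, s2]
  have e11 : ((1 : F4), (1 : F4)) = (1, 0) + (0, 1) := by simp
  have h1 := hs (1, 0) (0, 1)
  have h2 := hs (0, 1) (1, 0)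
  have h3 := hs (0, 1) (0, 1)
  have h4 : f (1, 0) (1, 0) = (1, 0) := by simpa using h0 1 1
  simp only [add_zero, zero_add, e11, addl, addr, h4] at h1 h2 h3
  have dec (a : F4 × F4) : a = a.1 • (1, 0) + a.2 • (0, 1) := by simp
  have k1 := congrArg Prod.fst h1
  have k2 := congrArg Prod.fst h2
  have k3 := congrArg Prod.fst h3
  simp only [Prod.fst_add] at k1 k2 k3
  refine ⟨(f (0, 1) (0, 1)).1 + (f (1, 0) (0, 1)).1 * (f (0, 1) (1, 0)).1, (f (1, 0) (0, 1)).1,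
    (f (0, 1) (1, 0)).1, fun a b => ?_⟩
  rw [show f a b = f (a.1 • (1, 0) + a.2 • (0, 1)) (b.1 • (1, 0) + b.2 • (0, 1)) by rw [← dec, ← dec]]
  simp only [addl, addr, l1, l2, h4]
  ext <;> simp only [Prod.fst_add, Prod.snd_add, Prod.smul_fst, Prod.smul_snd, smul_eq_mul, Rg.mul_s, Rg.mul_r,
    Prod.smul_mk]
  · linear_combination -aa ((f (1, 0) (0, 1)).1 * (f (0, 1) (1, 0)).1 * a.2 * b.2)
  · linear_combination -(b.2 * a.1) * k1 - (b.1 * a.2) * k2 - (b.2 * a.2) * k3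

end CL.G2C
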